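import Mathlib
import Groth.Agent.Lib.Helper5.ExtG1.D
import Groth.Agent.Lib.Helper5.SD.TwLin
import Groth.Agent.Lib.Helper5.SD.CurveOmega
import Groth.Agent.Lib.Helper5.SD.CanReg
import Groth.Agent.Lib.Helper5.SD.SSCritA
import Groth.Agent.Lib.Helper5.Curve3.SmInt
import Groth.Agent.Lib.Helper5.Glue.F

/-!
# Degree of the dual bundle and Riemann–Roch for `Hom` on a smooth proper curve of any genus
-/

set_option autoImplicit false
set_option linter.style.haveILetI false
universe u
open CategoryTheory CategoryTheory.Limits AlgebraicGeometry TopologicalSpace Opposite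

namespace Groth.Agent.H5.ThetaSS

open Groth.Agent.H2.HomSh Groth.Agent.LD Groth.Agent.LD.QC Groth.Agent.LD.XS
  Groth.Agent.LD.XS.DI Groth.Agent.H5.SD Groth.Agent.H5.ExtG1

attribute [-instance] Groth.Agent.LD.QC.stalkModule

section lin

variable (k : Type u) [Field k] {X : Scheme.{u}} [X.Over (Spec (CommRingCat.of k))]

/-- tensoring morphisms with a fixed module, as a linear map. -/
noncomputable def tensorHomLin (M : X.Modules) (A B : X.Modules) :
    (A ⟶ B) →ₗ[k] (CohB1.tensorMod A M ⟶ CohB1.tensorMod B M) where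
  toFun φ := KoszTw.tensorMap φ (𝟙 M)
  map_add' φ ψ := tensorMap_add_left M φ ψ
  map_smul' a φ := by
    rw [tensorMap_smul_left]
    rfl

lemma tensorHomLin_bijective {M N : X.Modules} (e : CohB1.tensorMod M N ≅ unitMod X)
    (A B : X.Modules) : Function.Bijective (tensorHomLin k M A B) := by
  let E := twEquiv M N e
  have hF : ∀ {A B : X.Modules} (f : A ⟶ B), E.functor.map f = KoszTw.tensorMap f (𝟙 M) :=
    fun f => twF_map M f
  constructor
  · intro φ ψ h
    have h1 : KoszTw.tensorMap φ (𝟙 M) = KoszTw.tensorMap ψ (𝟙 M) := h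
    rw [← hF, ← hF] at h1
    exact E.functor.map_injective h1
  · intro τ
    obtain ⟨φ, hφ⟩ := E.functor.map_surjective (X := A) (Y := B) τ
    refine ⟨φ, ?_⟩
    change KoszTw.tensorMap φ (𝟙 M) = τ
    rw [← hF, hφ]

end lin

variable (k : Type u) [Field k] (X : Scheme.{u}) [X.Over (Spec (CommRingCat.of k))]
  [IsProper (X ↘ Spec (CommRingCat.of k))] [Smooth (X ↘ Spec (CommRingCat.of k))] [IsIntegral X]

/-- **`χ(ω ⊗ B^∨) = -χ(B)`** for a vector bundle on a smooth proper curve (Serre duality). -/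
theorem euler_omega_Dl (hdim : topologicalKrullDim X = 1) {ω : X.Modules}
    {t : Coh.HH X ω 1 →ₗ[k] k} (hd : IsDualizing k X 1 ω t) (hωc : Coh.IsCoh ω)
    (b : ℕ) (B : X.Modules) (hB : FlatMod.IsFinLocFreeOfRank b B) :
    Curv2.euler k X (CohB1.tensorMod ω (Dl B)) = - Curv2.euler k X B := by
  haveI := Curve.isLocallyNoetherian k X
  have hreg := Groth.Agent.H5.Curve4.regular_stalks k X
  have hinv : PicF.IsInvertible ω := hd.isInvertible hωc hdim hreg
  haveI : ω.IsQuasicoherent := hωc.1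
  have hOc : Coh.IsCoh (unitMod X) :=
    Groth.Agent.H5.Curve2.isCoh_of_isInvertible (isInvertible_unit X)
  have hBc := isCoh_of_rank hB
  have hDc : Coh.IsCoh (Dl B) := isCoh_homSh hBc hOc
  haveI := hBc.1
  haveI := hDc.1
  have hTc : Coh.IsCoh (CohB1.tensorMod ω (Dl B)) :=
    Groth.Agent.H5.DegC.isCoh_tensorMod hωc hDc
  haveI := hTc.1
  have e1 := Curve.euler_eq_sub k X hdim.le (CohB1.tensorMod ω (Dl B))
  have e2 := Curve.euler_eq_sub k X hdim.le B
  haveI := isIso_theta B ω (isFinLocFree_of_rank' hB)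
  -- `h⁰(ω ⊗ B^∨) = h¹(B)`
  have a1 : Module.finrank k (Coh.HH X (CohB1.tensorMod ω (Dl B)) 0) =
      Module.finrank k (Coh.HH X B 1) := by
    haveI : Module.Finite k (Coh.HH X B 1) := Curve.finite_HH k X _ hBc 1
    rw [Groth.Agent.H5.Curve2.finrank_HH_iso k X (asIso (theta B ω)) 0,
      ← (homHH k B ω).finrank_eq, (hd.equiv B hBc).finrank_eq, Subspace.dual_finrank_eq]
  -- `h¹(ω ⊗ B^∨) = h⁰(B)`
  have a2 : Module.finrank k (Coh.HH X (CohB1.tensorMod ω (Dl B)) 1) =
      Module.finrank k (Coh.HH X B 0) := by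
    haveI : Module.Finite k (Coh.HH X (CohB1.tensorMod ω (Dl B)) 1) :=
      Curve.finite_HH k X _ hTc 1
    obtain ⟨ω', hω', ⟨eω⟩⟩ := Groth.Agent.H5.Glue.exists_inverse ω hinv
    have s1 := (hd.equiv _ hTc).finrank_eq
    rw [Subspace.dual_finrank_eq] at s1
    have s2 := (Linear.homCongr k (tensorComm ω (Dl B)) (unitorL ω).symm).finrank_eq
    have s3 := (LinearEquiv.ofBijective (tensorHomLin k ω (Dl B) (unitMod X))
      (tensorHomLin_bijective k eω (Dl B) (unitMod X))).finrank_eq
    have s4 := (homHH k (Dl B) (unitMod X)).finrank_eq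
    haveI := isIso_bidualMap b B hB
    have s5 := Groth.Agent.H5.Curve2.finrank_HH_iso k X (asIso (RefHull.bidualMap B)) 0
    rw [← s1, s2, ← s3, s4]
    exact s5.symm
  rw [e1, e2, a1, a2]
  ring

/-- **`deg(B^∨) = -deg(B)`.** -/
theorem deg_Dl [IsAlgClosed k] (hdim : topologicalKrullDim X = 1)
    (b : ℕ) (B : X.Modules) (hB : FlatMod.IsFinLocFreeOfRank b B) :
    Curv2.deg k X (Dl B) b = - Curv2.deg k X B b := by
  haveI := Curve.isLocallyNoetherian k X
  have h0 : Module.finrank k (Coh.HH X (Coh.structureModule X) 0) = 1 :=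
    Groth.Agent.H5.Curve3.finrank_HH0_eq_one_of_isAlgClosed k X
  obtain ⟨ω, t, hωc, hd⟩ := exists_dualizing_curve k X hdim
  have hreg := Groth.Agent.H5.Curve4.regular_stalks k X
  have hinv : PicF.IsInvertible ω := hd.isInvertible hωc hdim hreg
  have hω1 : FlatMod.IsFinLocFreeOfRank 1 ω := (isInvertible_iff ω).mp hinv
  have hdegω := hd.deg_eq hinv hdim h0
  have hO : FlatMod.IsFinLocFreeOfRank 1 (unitMod X) :=
    (isInvertible_iff _).mp (isInvertible_unit X)
  have hDl : FlatMod.IsFinLocFreeOfRank b (Dl B) := by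
    have := isFinLocFreeOfRank_homSh 1 b (unitMod X) B hO hB
    simpa using this
  have e3 := Groth.Agent.H5.DegC.deg_tensorMod k hdim.le 1 b ω (Dl B) hω1 hDl
  have e5 := euler_omega_Dl k X hdim hd hωc b B hB
  haveI : (unitMod X).IsQuasicoherent := qc_of_isInvertible _ (isInvertible_unit X)
  have h3 := Curve.euler_eq_sub k X hdim.le (unitMod X)
  have hO0 : Module.finrank k (Coh.HH X (unitMod X) 0) = 1 := h0
  have hg : Module.finrank k (Coh.HH X (unitMod X) 1) = Curv2.genus k X := rfl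
  rw [hO0, hg] at h3
  have h3' : Curv2.euler k X (Coh.structureModule X) = 1 - (Curv2.genus k X : ℤ) := by
    have h4 : Curv2.euler k X (Coh.structureModule X) = Curv2.euler k X (unitMod X) := rfl
    rw [h4, h3]
    push_cast
    ring
  rw [hdegω] at e3
  unfold Curv2.deg at e3 ⊢
  rw [h3'] at e3 ⊢
  rw [e5] at e3
  push_cast at e3 ⊢
  linarith

/-- **Riemann–Roch lower bound for `Hom`** between vector bundles. -/
theorem finrank_hom_ge [IsAlgClosed k] (hdim : topologicalKrullDim X = 1)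
    (a b : ℕ) (A B : X.Modules)
    (hA : FlatMod.IsFinLocFreeOfRank a A) (hB : FlatMod.IsFinLocFreeOfRank b B) :
    (b : ℤ) * Curv2.deg k X A a - a * Curv2.deg k X B b +
        (a : ℤ) * b * (1 - (Curv2.genus k X : ℤ)) ≤ (Module.finrank k (B ⟶ A) : ℤ) := by
  haveI := Curve.isLocallyNoetherian k X
  have h0 : Module.finrank k (Coh.HH X (Coh.structureModule X) 0) = 1 :=
    Groth.Agent.H5.Curve3.finrank_HH0_eq_one_of_isAlgClosed k X
  have hAc := isCoh_of_rank hA
  have hBc := isCoh_of_rank hB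
  haveI := hBc.1
  have hHc : Coh.IsCoh (RefHull.homSh B A) := isCoh_homSh hBc hAc
  haveI := hHc.1
  have e0 := Curve.euler_eq_sub k X hdim.le (RefHull.homSh B A)
  have e1 : Module.finrank k (B ⟶ A) = Module.finrank k (Coh.HH X (RefHull.homSh B A) 0) :=
    (homHH k B A).finrank_eq
  haveI := isIso_theta B A (isFinLocFree_of_rank' hB)
  have e2 := Curve.euler_iso k X (asIso (theta B A))
  have hO : FlatMod.IsFinLocFreeOfRank 1 (unitMod X) :=
    (isInvertible_iff _).mp (isInvertible_unit X)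
  have hDl : FlatMod.IsFinLocFreeOfRank b (Dl B) := by
    have := isFinLocFreeOfRank_homSh 1 b (unitMod X) B hO hB
    simpa using this
  have e3 := Groth.Agent.H5.DegC.deg_tensorMod k hdim.le a b A (Dl B) hA hDl
  have e5 := deg_Dl k X hdim b B hB
  haveI : (unitMod X).IsQuasicoherent := qc_of_isInvertible _ (isInvertible_unit X)
  have h3 := Curve.euler_eq_sub k X hdim.le (unitMod X)
  have hO0 : Module.finrank k (Coh.HH X (unitMod X) 0) = 1 := h0
  have hg : Module.finrank k (Coh.HH X (unitMod X) 1) = Curv2.genus k X := rfl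
  rw [hO0, hg] at h3
  have h3' : Curv2.euler k X (Coh.structureModule X) = 1 - (Curv2.genus k X : ℤ) := by
    have h4 : Curv2.euler k X (Coh.structureModule X) = Curv2.euler k X (unitMod X) := rfl
    rw [h4, h3]
    push_cast
    ring
  rw [e5] at e3
  unfold Curv2.deg at e3
  rw [h3'] at e3
  rw [e1]
  have hχ : Curv2.euler k X (RefHull.homSh B A) ≤
      (Module.finrank k (Coh.HH X (RefHull.homSh B A) 0) : ℤ) := by
    rw [e0]
    have : (0 : ℤ) ≤ Module.finrank k (Coh.HH X (RefHull.homSh B A) 1) := Int.natCast_nonneg _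
    linarith
  rw [← e2] at hχ
  push_cast at e3
  unfold Curv2.deg
  rw [h3']
  linarith

end Groth.Agent.H5.ThetaSS
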