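import Mathlib
import Groth.Agent.Lib.Helper5.ThetaSS.DualDeg
import Groth.Agent.Lib.Helper5.Curve4.Sat2
import Groth.Agent.Lib.Helper5.Curve4.VB3
import Groth.Prelude.Def_ModFun2

/-!
# A bundle with `Hom(E, F) = 0` for some `F` of slope `g - 1` is semistable (S18342)
-/

set_option autoImplicit false
set_option linter.style.haveILetI false
universe u
open CategoryTheory CategoryTheory.Limits AlgebraicGeometry TopologicalSpace Opposite

namespace Groth.Agent.H5.ThetaSS

open Groth.Agent.LD Groth.Agent.LD.QC Groth.Agent.H5.Curve4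

variable (k : Type u) [Field k] (X : Scheme.{u}) [X.Over (Spec (CommRingCat.of k))]
  [IsProper (X ↘ Spec (CommRingCat.of k))] [Smooth (X ↘ Spec (CommRingCat.of k))] [IsIntegral X]

/-- **S18342.** -/
theorem isSlopeSemistable_of_hom_eq_zero [IsAlgClosed k] (hdim : topologicalKrullDim X = 1)
    (E : X.Modules) (r : ℕ) (hr : 0 < r) (hE : FlatMod.IsFinLocFreeOfRank r E)
    (hEdeg : Curv2.deg k X E r = 0)
    (F : X.Modules) (n : ℕ) (hn : 0 < n) (hF : FlatMod.IsFinLocFreeOfRank n F)
    (hFdeg : Curv2.deg k X F n = (n : ℤ) * ((Curv2.genus k X : ℤ) - 1))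
    (hhom : ∀ φ : E ⟶ F, φ = 0) :
    ModFun.IsSlopeSemistable k X E r := by
  intro G s i hi hs hG
  haveI := hi
  rw [hEdeg, zero_mul]
  by_contra hcon
  push Not at hcon
  have hrz : (0 : ℤ) < r := by exact_mod_cast hr
  have hGpos : 0 < Curv2.deg k X G s := by
    by_contra h
    push Not at h
    have : Curv2.deg k X G s * (r : ℤ) ≤ 0 := mul_nonpos_of_nonpos_of_nonneg h hrz.le
    linarith
  obtain ⟨G', i', j, s', hi', hji, hG', hQ, hrs, hle, -, hdeg⟩ :=
    exists_saturation k X hdim.le i s r hG hE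
  haveI := hi'
  have hQdeg : Curv2.deg k X (cokernel i') s' < 0 := by
    rw [hEdeg] at hdeg
    linarith
  have hb := finrank_hom_ge k X hdim n s' F (cokernel i') hF hQ
  rw [hFdeg] at hb
  have hnz : (0 : ℤ) < n := by exact_mod_cast hn
  have hpos : (0 : ℤ) < Module.finrank k (cokernel i' ⟶ F) := by
    have h1 : (0 : ℤ) < - ((n : ℤ) * Curv2.deg k X (cokernel i') s') := by
      have := mul_neg_of_pos_of_neg hnz hQdeg
      linarith
    have h2 : (s' : ℤ) * ((n : ℤ) * ((Curv2.genus k X : ℤ) - 1)) -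
        n * Curv2.deg k X (cokernel i') s' + (n : ℤ) * s' * (1 - (Curv2.genus k X : ℤ)) =
        - ((n : ℤ) * Curv2.deg k X (cokernel i') s') := by ring
    rw [h2] at hb
    linarith
  have hpos' : 0 < Module.finrank k (cokernel i' ⟶ F) := by exact_mod_cast hpos
  haveI : Nontrivial (cokernel i' ⟶ F) := Module.nontrivial_of_finrank_pos (R := k) hpos'
  obtain ⟨ψ, hψ⟩ := exists_ne (0 : cokernel i' ⟶ F)
  apply hψ
  have h0 := hhom (cokernel.π i' ≫ ψ)
  rw [← cancel_epi (cokernel.π i'), h0, comp_zero]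

end Groth.Agent.H5.ThetaSS
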